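import Groth.Agent.HTopFrobLim.Square
import Groth.Agent.HTopAbu.Criterion
import Groth.Agent.LBDesc.Func
import Groth.Prelude.Def_W4stkflatFrob
import Mathlib

/-!
# The presheaf of perfect sequences of functions is an h sheaf
-/

set_option autoImplicit false
set_option linter.style.haveILetI false
set_option backward.isDefEq.respectTransparency false
set_option backward.isDefEq.respectTransparency.types false

universe u

open CategoryTheory CategoryTheory.Limits AlgebraicGeometry TopologicalSpace Opposite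

noncomputable section

namespace Groth.Agent.HTopFrobLim

variable {p : ℕ} {S : Scheme.{u}}

/-- Functions glue along Zariski covering sieves of schemes over `S`. -/
theorem existsUnique_function {X : Over S} {T : Sieve X} (hT : T ∈ (Scheme.zariskiTopology.over S) X)
    (x : ∀ ⦃Y : Over S⦄ (f : Y ⟶ X), T.arrows f → Γ(Y.left, ⊤))
    (hx : ∀ ⦃Y Z : Over S⦄ (f : Y ⟶ X) (g : Z ⟶ Y) (hf : T.arrows f),
      x (g ≫ f) (T.downward_closed hf g) = g.left.appTop.hom (x f hf)) :
    ∃! z : Γ(X.left, ⊤), ∀ ⦃Y : Over S⦄ (f : Y ⟶ X) (hf : T.arrows f), f.left.appTop.hom z = x f hf := by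
  rw [GrothendieckTopology.mem_over_iff] at hT
  let R := Sieve.overEquiv X T
  let ψ {W : Scheme.{u}} := AlgebraicGeometry.AffineSpace.toSpecMvPolyIntEquiv PUnit.{u + 1} (X := W)
  have hsh := GrothendieckTopology.Subcanonical.isSheaf_of_isRepresentable
    (J := Scheme.zariskiTopology) (yoneda.obj (Spec (CommRingCat.of (MvPolynomial PUnit.{u + 1} (ULift.{u} ℤ))))) R hT
  have hR : ∀ {W : Scheme.{u}} (g : W ⟶ X.left), R.arrows g →
      T.arrows (Over.homMk g : Over.mk (g ≫ X.hom) ⟶ X) := fun g hg => (Sieve.overEquiv_iff _ _).1 hg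
  have hR' : ∀ {Y : Over S} (f : Y ⟶ X), T.arrows f → R.arrows f.left := fun {Y} f hf => by
    rw [Sieve.overEquiv_iff]
    exact T.downward_closed hf (Over.homMk (𝟙 Y.left) (by simp) : Over.mk (f.left ≫ X.hom) ⟶ Y) |> fun h => by
      convert h using 1
      ext
      simp
  have hxx : ∀ {Y : Over S} (f : Y ⟶ X) (hf : T.arrows f), x (Over.homMk f.left : Over.mk (f.left ≫ X.hom) ⟶ X)
      (hR _ (hR' f hf)) = x f hf := by
    intro Y f hf
    let e : Over.mk (f.left ≫ X.hom) ⟶ Y := Over.homMk (𝟙 _) (by simp)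
    have he : (Over.homMk f.left : Over.mk (f.left ≫ X.hom) ⟶ X) = e ≫ f := by ext; simp [e]
    have h := hx f e hf
    simp only [e, Over.homMk_left, Scheme.Hom.id_appTop] at h
    refine Eq.trans ?_ h
    congr 1
  let fam : Presieve.FamilyOfElements (yoneda.obj (Spec (CommRingCat.of (MvPolynomial PUnit.{u + 1} (ULift.{u} ℤ))))) R.arrows :=
    fun W g hg => ψ.symm fun _ => x _ (hR g hg)
  have hval : ∀ {W W' : Scheme.{u}} (k : W' ⟶ W) (m : W ⟶ Spec (CommRingCat.of (MvPolynomial PUnit.{u + 1} (ULift.{u} ℤ)))),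
      ψ (k ≫ m) = fun i => k.appTop.hom (ψ m i) := fun k m => funext fun i => rfl
  have hfam : fam.Compatible := by
    rw [Presieve.compatible_iff_sieveCompatible]
    intro W W' g k hg
    apply ψ.injective
    show ψ (ψ.symm _) = ψ (k ≫ ψ.symm _)
    rw [hval, Equiv.apply_symm_apply, Equiv.apply_symm_apply]
    funext i
    let k' : Over.mk ((k ≫ g) ≫ X.hom) ⟶ Over.mk (g ≫ X.hom) :=
      Over.homMk (U := Over.mk ((k ≫ g) ≫ X.hom)) (V := Over.mk (g ≫ X.hom)) k (by simp)
    let g' : Over.mk (g ≫ X.hom) ⟶ X := Over.homMk g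
    have h1 := hxx (k' ≫ g') (T.downward_closed (hR g hg) _)
    have h2 := hx g' k' (hR g hg)
    exact h1.trans h2
  obtain ⟨z, hz, huniq⟩ := hsh fam hfam
  refine ⟨ψ z PUnit.unit, fun Y f hf => ?_, fun z' hz' => ?_⟩
  · have h := congrArg (fun m => ψ m PUnit.unit) (hz f.left (hR' f hf))
    simp only [fam, Equiv.apply_symm_apply] at h
    rw [← hxx f hf, ← h]
    exact (congrFun (hval f.left z) PUnit.unit).symm
  · have h : ψ.symm (fun _ => z') = z := by
      refine huniq _ fun W g hg => ψ.injective ?_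
      show ψ (g ≫ ψ.symm _) = ψ (ψ.symm _)
      rw [hval, Equiv.apply_symm_apply, Equiv.apply_symm_apply]
      funext i
      exact hz' _ (hR g hg)
    rw [← h, Equiv.apply_symm_apply]

theorem isSheaf_zariski : Presieve.IsSheaf (Scheme.zariskiTopology.over S) (HTop.frobLimPresheaf p S) := by
  intro X T hT x hx
  rw [Presieve.compatible_iff_sieveCompatible] at hx
  have hval : ∀ n, ∀ ⦃Y Z : Over S⦄ (f : Y ⟶ X) (g : Z ⟶ Y) (hf : T.arrows f),
      (x (g ≫ f) (T.downward_closed hf g)).1 n = g.left.appTop.hom ((x f hf).1 n) := fun n Y Z f g hf =>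
    congrArg (fun w : HTop.FrobLimSections p Z.left => w.1 n) (hx f g hf)
  choose z hz huniq using fun n => existsUnique_function hT (fun Y f hf => (x f hf).1 n) (hval n)
  have hperf : ∀ n, z (n + 1) ^ p = z n := fun n => huniq n _ fun Y f hf => by
    rw [map_pow, hz (n + 1) f hf]
    exact (x f hf).2 n
  refine ⟨⟨z, hperf⟩, fun Y f hf => HTop.FrobLimSections.ext fun n => hz n f hf, fun w hw =>
    HTop.FrobLimSections.ext fun n => huniq n (w.1 n) fun Y f hf => ?_⟩
  exact congrArg (fun v : HTop.FrobLimSections p Y.left => v.1 n) (hw f hf)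

theorem flatProperCond : HTopAbu.FlatProperCond (HTop.frobLimPresheaf p S) := by
  intro X Y f hY hs hfl hp _
  haveI := hY
  haveI := hs
  haveI := hfl
  haveI := hp
  let R : Over S := Over.mk (pullback.fst f.left f.left ≫ X.hom)
  let r₁ : R ⟶ X := Over.homMk (pullback.fst f.left f.left) rfl
  let r₂ : R ⟶ X := Over.homMk (pullback.snd f.left f.left) (by
    show pullback.snd f.left f.left ≫ X.hom = pullback.fst f.left f.left ≫ X.hom
    rw [← Over.w f, ← pullback.condition_assoc])
  rw [Presieve.isSheafFor_singleton]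
  intro x hx
  have h := hx r₁ r₂ (by ext; exact pullback.condition)
  have hdesc : ∀ n, ∃! c : Γ(Y.left, ⊤), f.left.appTop.hom c = x.1 n := fun n =>
    LBDesc.existsUnique_desc f.left (x.1 n) (fun {T} y₁ y₂ hy => by
      have h1 := congrArg (pullback.lift y₁ y₂ hy).appTop.hom
        (congrArg (fun w : HTop.FrobLimSections p R.left => w.1 n) h)
      have e1 : (pullback.fst f.left f.left).appTop ≫ (pullback.lift y₁ y₂ hy).appTop = y₁.appTop := by
        rw [← Scheme.Hom.comp_appTop, pullback.lift_fst]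
      have e2 : (pullback.snd f.left f.left).appTop ≫ (pullback.lift y₁ y₂ hy).appTop = y₂.appTop := by
        rw [← Scheme.Hom.comp_appTop, pullback.lift_snd]
      rw [← e1, ← e2]
      exact h1)
  choose c hc huniq using hdesc
  have hperf : ∀ n, c (n + 1) ^ p = c n := fun n => huniq n _ (by
    show f.left.appTop.hom (c (n + 1) ^ p) = x.1 n
    rw [map_pow, hc]
    exact x.2 n)
  exact ⟨⟨c, hperf⟩, HTop.FrobLimSections.ext hc, fun w hw => HTop.FrobLimSections.ext fun n =>
    huniq n (w.1 n) (congrArg (fun v : HTop.FrobLimSections p X.left => v.1 n) hw)⟩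

theorem twoSquareCond [Fact p.Prime] (hS : (p : Γ(S, ⊤)) = 0) :
    HTopAbu.TwoSquareCond (HTop.frobLimPresheaf p S) := by
  intro E Z X' X e π b i hX hsq ⟨u, v, hker⟩ t s hts
  haveI := hX
  exact existsUnique_square hsq hker t s
    (by rw [← map_natCast X.hom.appTop.hom, hS, map_zero])
    (fun n => congrArg (fun w : HTop.FrobLimSections p E.left => w.1 n) hts)

theorem isSheaf_Jh [Fact p.Prime] (hS : (p : Γ(S, ⊤)) = 0) :
    Presieve.IsSheaf (HTop.Jh S) (HTop.frobLimPresheaf p S) :=
  HTopAbu.isSheaf_Jh_of_cond isSheaf_zariski flatProperCond (twoSquareCond hS)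

end Groth.Agent.HTopFrobLim

end
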