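import Mathlib

/-!
# Perfect sequences in rings of characteristic `p`

A perfect sequence (`x (n + 1) ^ p = x n`) which lies in a two-generated ideal and vanishes where one of
the generators is invertible is zero. Perfect sequences on the two charts of the blow-up in `u, v` which agree
modulo the exceptional ideal and away from it descend to the base.
-/

set_option autoImplicit false
set_option linter.style.haveILetI false
set_option linter.unusedSectionVars false

universe u

noncomputable section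

namespace Groth.Agent.HTopFrobLim

/-- Perfect sequences. -/
def IsPerfectSeq {R : Type*} [Monoid R] (p : ℕ) (x : ℕ → R) : Prop := ∀ n, x (n + 1) ^ p = x n

theorem IsPerfectSeq.pow {R : Type*} [Monoid R] {p : ℕ} {x : ℕ → R} (h : IsPerfectSeq p x) (n j : ℕ) :
    x (n + j) ^ p ^ j = x n := by
  induction j with
  | zero => simp
  | succ j ih => rw [pow_succ', pow_mul, ← add_assoc, h, ih]

theorem IsPerfectSeq.map {R S F : Type*} [Monoid R] [Monoid S] [FunLike F R S] [MonoidHomClass F R S] {p : ℕ}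
    {x : ℕ → R} (h : IsPerfectSeq p x) (f : F) : IsPerfectSeq p fun n => f (x n) := fun n => by
  show f (x (n + 1)) ^ p = f (x n)
  rw [← map_pow, h]

section CharP

variable {p : ℕ} [Fact p.Prime]

theorem sub_pow' {R : Type*} [CommRing R] (hp : (p : R) = 0) (x y : R) (n : ℕ) :
    (x - y) ^ p ^ n = x ^ p ^ n - y ^ p ^ n := by
  rcases subsingleton_or_nontrivial R with hs | hs
  · exact Subsingleton.elim _ _
  haveI : CharP R p := (CharP.charP_iff_prime_eq_zero Fact.out).2 hp
  exact sub_pow_char_pow x y n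

theorem sub_pow₁ {R : Type*} [CommRing R] (hp : (p : R) = 0) (x y : R) :
    (x - y) ^ p = x ^ p - y ^ p := by
  simpa using sub_pow' hp x y 1

theorem IsPerfectSeq.sub {R : Type*} [CommRing R] (hp : (p : R) = 0) {x y : ℕ → R}
    (hx : IsPerfectSeq p x) (hy : IsPerfectSeq p y) : IsPerfectSeq p fun n => x n - y n := fun n => by
  show (x (n + 1) - y (n + 1)) ^ p = x n - y n
  rw [sub_pow₁ hp, hx, hy]

/-- The key vanishing: no noetherian hypothesis is needed. -/
theorem IsPerfectSeq.eq_zero {R : Type*} [CommRing R] (u v : R) {x : ℕ → R} (hx : IsPerfectSeq p x)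
    (hmem : ∀ n, x n ∈ Ideal.span {u, v}) (hu : ∀ n, ∃ m : ℕ, u ^ m * x n = 0)
    (hv : ∀ n, ∃ m : ℕ, v ^ m * x n = 0) (n : ℕ) : x n = 0 := by
  have hsq : ∀ n, x n * x n = 0 := by
    intro n
    obtain ⟨m, hm⟩ := hu n
    obtain ⟨m', hm'⟩ := hv n
    let I : Ideal R := LinearMap.ker (LinearMap.toSpanSingleton R R (x n))
    have hI : ∀ a : R, a ∈ I ↔ a * x n = 0 := fun a => Iff.rfl
    obtain ⟨j, hj⟩ : ∃ j, m + m' ≤ p ^ j + 1 :=
      ⟨m + m', (Nat.lt_pow_self (Fact.out : p.Prime).one_lt).le.trans (Nat.le_succ _)⟩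
    obtain ⟨a, b, hab⟩ := Ideal.mem_span_pair.1 (hmem (n + j))
    have h := I.add_pow_mem_of_pow_mem_of_le (a := a * u) (b := b * v) (m := m) (n := m') (k := p ^ j)
      ((hI _).2 (by rw [mul_pow, mul_assoc, hm, mul_zero])) ((hI _).2 (by rw [mul_pow, mul_assoc, hm', mul_zero])) hj
    rw [hab, hx.pow n j] at h
    exact (hI _).1 h
  rw [← hx n, show p = 2 + (p - 2) by have := (Fact.out : p.Prime).two_le; omega, pow_add, sq, hsq, zero_mul]

theorem IsPerfectSeq.ext {R : Type*} [CommRing R] (hp : (p : R) = 0) (u v : R) {x y : ℕ → R}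
    (hx : IsPerfectSeq p x) (hy : IsPerfectSeq p y) (hmem : ∀ n, x n - y n ∈ Ideal.span {u, v})
    (hu : ∀ n, ∃ m : ℕ, u ^ m * x n = u ^ m * y n) (hv : ∀ n, ∃ m : ℕ, v ^ m * x n = v ^ m * y n) (n : ℕ) :
    x n = y n :=
  sub_eq_zero.1 ((hx.sub hp hy).eq_zero u v hmem (fun n => (hu n).imp fun m hm => by rw [mul_sub, hm, sub_self])
    (fun n => (hv n).imp fun m hm => by rw [mul_sub, hm, sub_self]) n)

end CharP

/-- Elements on a covering by basic opens glue. -/
theorem exists_glue {R : Type u} [CommRing R] {ι : Type*} [Fintype ι] (r : ι → R)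
    (hr : Ideal.span (Set.range r) = ⊤) (x : ∀ i, Localization.Away (r i))
    (hx : ∀ (i j : ι) (S : Type u) [CommRing S] [Algebra R S] (f : Localization.Away (r i) →ₐ[R] S)
      (g : Localization.Away (r j) →ₐ[R] S), f (x i) = g (x j)) :
    ∃ z : R, ∀ i, algebraMap R (Localization.Away (r i)) z = x i := by
  classical
  choose N y hy using fun i => IsLocalization.Away.surj (r i) (x i)
  have hc : ∀ i j, ∃ L : ℕ, (r i * r j) ^ L * (y i * r j ^ N j) = (r i * r j) ^ L * (y j * r i ^ N i) := by
    intro i j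
    let S := Localization.Away (r i * r j)
    have hi : IsUnit (algebraMap R S (r i)) := isUnit_of_mul_isUnit_left (y := algebraMap R S (r j))
      (by rw [← map_mul]; exact IsLocalization.Away.algebraMap_isUnit _)
    have hj : IsUnit (algebraMap R S (r j)) := isUnit_of_mul_isUnit_right (x := algebraMap R S (r i))
      (by rw [← map_mul]; exact IsLocalization.Away.algebraMap_isUnit _)
    let f : Localization.Away (r i) →ₐ[R] S :=
      { IsLocalization.Away.lift (S := Localization.Away (r i)) (r i) hi with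
        commutes' := fun a => IsLocalization.Away.lift_eq (r i) hi a }
    let g : Localization.Away (r j) →ₐ[R] S :=
      { IsLocalization.Away.lift (S := Localization.Away (r j)) (r j) hj with
        commutes' := fun a => IsLocalization.Away.lift_eq (r j) hj a }
    have h1 := congrArg f (hy i)
    have h2 := congrArg g (hy j)
    rw [map_mul, map_pow, AlgHom.commutes, AlgHom.commutes] at h1 h2
    have h : algebraMap R S (y i * r j ^ N j) = algebraMap R S (y j * r i ^ N i) := by
      rw [map_mul, map_mul, map_pow, map_pow, ← h1, ← h2, hx i j S f g]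
      ring
    obtain ⟨⟨_, L, rfl⟩, hL⟩ := (IsLocalization.eq_iff_exists (Submonoid.powers (r i * r j)) S).1 h
    exact ⟨L, hL⟩
  choose L hL using hc
  obtain ⟨K, hK⟩ : ∃ K, ∀ i j, L i j ≤ K := ⟨Finset.univ.sup fun q : ι × ι => L q.1 q.2,
    fun i j => Finset.le_sup (f := fun q : ι × ι => L q.1 q.2) (Finset.mem_univ (i, j))⟩
  have hK' : ∀ i j, (y i * r i ^ K) * r j ^ (N j + K) = (y j * r j ^ K) * r i ^ (N i + K) := by
    intro i j
    obtain ⟨d, hd⟩ := Nat.exists_eq_add_of_le (hK i j)
    have h := hL i j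
    rw [mul_pow] at h
    rw [hd, pow_add (r i) (N i), pow_add (r j) (N j), pow_add (r i) (L i j), pow_add (r j) (L i j)]
    linear_combination (r i ^ d * r j ^ d) * h
  obtain ⟨e, he⟩ : ∃ e : ι → R, ∑ k, e k * r k ^ (N k + K) = 1 := by
    have h : Ideal.span (Set.range fun k => r k ^ (N k + K)) = ⊤ := by
      rw [← Ideal.radical_eq_top, eq_top_iff, ← hr]
      refine Ideal.span_le.2 ?_
      rintro _ ⟨k, rfl⟩
      exact ⟨N k + K, Ideal.subset_span ⟨k, rfl⟩⟩
    exact (Ideal.mem_span_range_iff_exists_fun).1 (h ▸ Submodule.mem_top)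
  refine ⟨∑ k, e k * (y k * r k ^ K), fun i => ?_⟩
  have hz : r i ^ (N i + K) * ∑ k, e k * (y k * r k ^ K) = y i * r i ^ K := by
    calc r i ^ (N i + K) * ∑ k, e k * (y k * r k ^ K)
        = ∑ k, (e k * r k ^ (N k + K)) * (y i * r i ^ K) := by
          rw [Finset.mul_sum]
          refine Finset.sum_congr rfl fun k _ => ?_
          linear_combination (-(e k)) * hK' i k
      _ = y i * r i ^ K := by rw [← Finset.sum_mul, he, one_mul]
  have h := congrArg (algebraMap R (Localization.Away (r i))) hz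
  rw [map_mul, map_mul, ← hy i, map_pow, map_pow] at h
  refine ((IsLocalization.Away.algebraMap_isUnit (r i)).pow (N i + K)).mul_left_cancel ?_
  rw [h, pow_add]
  ring

section Lift

variable {A : Type u} [CommRing A]

/-- The value of an element of `A[1/w]` in an algebra where `w` is invertible. -/
def ev {w : A} {R : Type*} [CommRing R] [Algebra A R] (h : IsUnit (algebraMap A R w))
    (c : Localization.Away w) : R :=
  IsLocalization.Away.lift (S := Localization.Away w) w h c

theorem map_ev {w : A} {R S : Type*} [CommRing R] [Algebra A R] [CommRing S] [Algebra A S] (f : R →ₐ[A] S)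
    (h : IsUnit (algebraMap A R w)) (h' : IsUnit (algebraMap A S w)) (c : Localization.Away w) :
    f (ev h c) = ev h' c := by
  have e : f.toRingHom.comp (IsLocalization.Away.lift (S := Localization.Away w) w h) =
      IsLocalization.Away.lift (S := Localization.Away w) w h' :=
    IsLocalization.ringHom_ext (Submonoid.powers w) (RingHom.ext fun a => by
      simp [IsLocalization.Away.lift_eq])
  exact congrArg (fun φ => φ c) e

/-- A perfect lift over an algebra in which `u` generates the exceptional ideal. -/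
structure IsLift (p : ℕ) (u : A) (a : ℕ → A) (cu : ℕ → Localization.Away u) {R : Type u} [CommRing R]
    [Algebra A R] (σ : ℕ → R) : Prop where
  perf : IsPerfectSeq p σ
  mem : ∀ n, σ n - algebraMap A R (a n) ∈ Ideal.span {algebraMap A R u}
  away : ∀ n, ∀ (S : Type u) [CommRing S] [Algebra A S] (f : R →ₐ[A] S) (h : IsUnit (algebraMap A S u)),
    f (σ n) = ev h (cu n)

variable {p : ℕ} [Fact p.Prime] {u : A} {a : ℕ → A} {cu : ℕ → Localization.Away u}

theorem exists_pow_mul_eq {R : Type u} [CommRing R] [Algebra A R] {w : A} {x y : R}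
    (h : ∀ (S : Type u) [CommRing S] [Algebra A S] (f : R →ₐ[A] S), IsUnit (algebraMap A S w) → f x = f y) :
    ∃ m : ℕ, algebraMap A R w ^ m * x = algebraMap A R w ^ m * y := by
  let S := Localization.Away (algebraMap A R w)
  have h1 : IsScalarTower.toAlgHom A R S x = IsScalarTower.toAlgHom A R S y :=
    h S (IsScalarTower.toAlgHom A R S) (by
      rw [IsScalarTower.algebraMap_apply A R S]
      exact IsLocalization.Away.algebraMap_isUnit _)
  obtain ⟨⟨_, m, rfl⟩, hm⟩ := (IsLocalization.eq_iff_exists (Submonoid.powers (algebraMap A R w)) S).1 h1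
  exact ⟨m, hm⟩

theorem IsLift.unique (hp : (p : A) = 0) {R : Type u} [CommRing R] [Algebra A R] {σ σ' : ℕ → R}
    (hσ : IsLift p u a cu σ) (hσ' : IsLift p u a cu σ') (n : ℕ) : σ n = σ' n := by
  have hp' : (p : R) = 0 := by rw [← map_natCast (algebraMap A R), hp, map_zero]
  have hk : ∀ n, ∃ m : ℕ, algebraMap A R u ^ m * σ n = algebraMap A R u ^ m * σ' n := fun n =>
    exists_pow_mul_eq fun S _ _ f h => (hσ.away n S f h).trans (hσ'.away n S f h).symm
  refine hσ.perf.ext hp' (algebraMap A R u) (algebraMap A R u) hσ'.perf (fun n => ?_) hk hk n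
  rw [Set.pair_eq_singleton]
  simpa using sub_mem (hσ.mem n) (hσ'.mem n)

theorem IsLift.map {R R' : Type u} [CommRing R] [Algebra A R] [CommRing R'] [Algebra A R'] {σ : ℕ → R}
    (hσ : IsLift p u a cu σ) (f : R →ₐ[A] R') : IsLift p u a cu fun n => f (σ n) where
  perf := hσ.perf.map f
  mem n := by
    have h := Ideal.mem_map_of_mem f (hσ.mem n)
    rw [Ideal.map_span, Set.image_singleton, map_sub, f.commutes, f.commutes] at h
    exact h
  away n S _ _ g h := hσ.away n S (g.comp f) h

/-- Local data for a lift: lifts modulo an ideal killed by a power of `u`. -/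
def HasPiece (p : ℕ) (u : A) (a : ℕ → A) (cu : ℕ → Localization.Away u) (R : Type u) [CommRing R]
    [Algebra A R] : Prop :=
  ∃ (J : Ideal R) (M : ℕ) (l : ℕ → R), (∀ x ∈ J, algebraMap A R u ^ M * x = 0) ∧
    (∀ n, l (n + 1) ^ p - l n ∈ J) ∧ (∀ n, l n - algebraMap A R (a n) ∈ J ⊔ Ideal.span {algebraMap A R u}) ∧
    ∀ n, ∀ (S : Type u) [CommRing S] [Algebra A S] (f : R →ₐ[A] S) (h : IsUnit (algebraMap A S u)),
      f (l n) = ev h (cu n)

theorem exists_lift_of_piece (hp : (p : A) = 0) {R : Type u} [CommRing R] [Algebra A R]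
    (ha : ∀ n, algebraMap A R (a (n + 1) ^ p - a n) ∈ Ideal.span {algebraMap A R u})
    (hcu : IsPerfectSeq p cu) (h : HasPiece p u a cu R) : ∃ σ : ℕ → R, IsLift p u a cu σ := by
  obtain ⟨J, M, l, hJ, hl, hla, hlu⟩ := h
  have hp' : (p : R) = 0 := by rw [← map_natCast (algebraMap A R), hp, map_zero]
  choose j hj c hc hjc using fun n => Submodule.mem_sup.1 (hla n)
  let P : Ideal R := Ideal.span {algebraMap A R u}
  let ι := algebraMap A R
  let l' : ℕ → R := fun n => l n - j n
  have hl'a : ∀ n, l' n - ι (a n) ∈ P := fun n => by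
    show l n - j n - ι (a n) ∈ P
    rw [show l n - j n - ι (a n) = c n by linear_combination -(hjc n)]
    exact hc n
  have hP : ∀ {x y : R}, x - y ∈ P → x ^ p - y ^ p ∈ P := fun {x y} h => by
    rw [← sub_pow₁ hp']
    exact Ideal.pow_mem_of_mem _ h _ (Fact.out : p.Prime).pos
  have hJp : ∀ {x y : R}, x - y ∈ J → x ^ p - y ^ p ∈ J := fun {x y} h => by
    rw [← sub_pow₁ hp']
    exact Ideal.pow_mem_of_mem _ h _ (Fact.out : p.Prime).pos
  have hd : ∀ n, l' (n + 1) ^ p - l' n ∈ J ∧ l' (n + 1) ^ p - l' n ∈ P := fun n => by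
    constructor
    · have h1 : l' (n + 1) ^ p - l (n + 1) ^ p ∈ J := hJp (by
        show l (n + 1) - j (n + 1) - l (n + 1) ∈ J
        rw [sub_sub_cancel_left]; exact J.neg_mem (hj _))
      have h2 : l n - l' n ∈ J := by
        show l n - (l n - j n) ∈ J
        rw [sub_sub_cancel]; exact hj n
      simpa using add_mem (add_mem h1 (hl n)) h2
    · have h1 := hP (hl'a (n + 1))
      have h2 : ι (a (n + 1)) ^ p - ι (a n) ∈ P := by simpa [ι] using ha n
      simpa using sub_mem (add_mem h1 h2) (hl'a n)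
  obtain ⟨N, hN⟩ : ∃ N, M + 1 ≤ p ^ N := ⟨M + 1, (Nat.lt_pow_self (Fact.out : p.Prime).one_lt).le⟩
  have hkill : ∀ x, x ∈ J → x ∈ P → x ^ p ^ N = 0 := fun x hxJ hxP => by
    obtain ⟨w, rfl⟩ := Ideal.mem_span_singleton'.1 hxP
    refine pow_eq_zero_of_le hN ?_
    rw [pow_succ, mul_pow, mul_assoc, hJ _ hxJ, mul_zero]
  have hperf : IsPerfectSeq p fun n => l' (n + N) ^ p ^ N := fun n => by
    show (l' (n + 1 + N) ^ p ^ N) ^ p = l' (n + N) ^ p ^ N
    rw [← sub_eq_zero, ← pow_mul, mul_comm, pow_mul, ← sub_pow' hp', show n + 1 + N = n + N + 1 by omega]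
    exact hkill _ (hd _).1 (hd _).2
  refine ⟨_, hperf, fun n => ?_, fun n S _ _ f h => ?_⟩
  · have haux : ∀ k m, ι (a (m + k)) ^ p ^ k - ι (a m) ∈ P := fun k => by
      induction k with
      | zero => intro m; simp
      | succ k ih =>
        intro m
        have h1 := hP (ih (m + 1))
        have h2 : ι (a (m + 1)) ^ p - ι (a m) ∈ P := by simpa [ι] using ha m
        have h3 := add_mem h1 h2
        rw [← pow_mul, ← pow_succ, show m + 1 + k = m + (k + 1) by omega] at h3
        simpa using h3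
    have h1 : l' (n + N) ^ p ^ N - ι (a (n + N)) ^ p ^ N ∈ P := by
      rw [← sub_pow' hp']
      exact Ideal.pow_mem_of_mem _ (hl'a _) _ (pow_pos (Fact.out : p.Prime).pos N)
    simpa using add_mem h1 (haux N n)
  · have hj0 : f (j (n + N)) = 0 := by
      have h1 := congrArg f (hJ _ (hj (n + N)))
      rw [map_mul, map_pow, map_zero, f.commutes] at h1
      exact (h.pow M).mul_left_cancel (by rw [h1, mul_zero])
    rw [map_pow, show f (l' (n + N)) = ev h (cu (n + N)) by rw [map_sub, hj0, sub_zero, hlu]]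
    exact (hcu.map (IsLocalization.Away.lift (S := Localization.Away u) u h)).pow n N

theorem IsLift.localAway (hp : (p : A) = 0) {R : Type u} [CommRing R] [Algebra A R]
    (ha : ∀ n, algebraMap A R (a (n + 1) ^ p - a n) ∈ Ideal.span {algebraMap A R u})
    (hcu : IsPerfectSeq p cu)
    (h : ∀ P : Ideal R, P.IsPrime → ∃ r : R, r ∉ P ∧ HasPiece p u a cu (Localization.Away r)) :
    ∃ σ : ℕ → R, IsLift p u a cu σ := by
  classical
  choose r hr hpiece using h
  have hspan : Ideal.span (Set.range fun P : {P : Ideal R // P.IsPrime} => r P.1 P.2) = ⊤ := by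
    by_contra hne
    obtain ⟨P, hP, hle⟩ := Ideal.exists_le_maximal _ hne
    exact hr P hP.isPrime (hle (Ideal.subset_span ⟨⟨P, hP.isPrime⟩, rfl⟩))
  obtain ⟨T, hT, h1⟩ := Submodule.mem_span_finite_of_mem_span ((Ideal.eq_top_iff_one _).1 hspan)
  have hspanT : Ideal.span (Set.range fun x : T => x.1) = ⊤ := by
    rw [Subtype.range_coe_subtype, Finset.setOfPred_mem]
    exact (Ideal.eq_top_iff_one _).2 h1
  have hlift : ∀ x : T, ∃ σ : ℕ → Localization.Away x.1, IsLift p u a cu σ := by
    rintro ⟨x, hx⟩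
    obtain ⟨P, rfl⟩ := hT hx
    refine exists_lift_of_piece hp (fun n => ?_) hcu (hpiece P.1 P.2)
    have := Ideal.mem_map_of_mem (algebraMap R (Localization.Away (r P.1 P.2))) (ha n)
    rwa [Ideal.map_span, Set.image_singleton, ← IsScalarTower.algebraMap_apply, ← IsScalarTower.algebraMap_apply] at this
  choose σ hσ using hlift
  have hglue : ∀ n, ∃ z : R, ∀ x : T, algebraMap R (Localization.Away x.1) z = σ x n := fun n => by
    refine exists_glue (fun x : T => x.1) hspanT (fun x => σ x n) fun i j S _ _ f g => ?_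
    letI : Algebra A S := ((algebraMap R S).comp (algebraMap A R)).toAlgebra
    haveI : IsScalarTower A R S := IsScalarTower.of_algebraMap_eq' rfl
    exact ((hσ i).map (f.restrictScalars A)).unique hp ((hσ j).map (g.restrictScalars A)) n
  choose z hz using hglue
  have hinj : ∀ x y : R, (∀ t : T, algebraMap R (Localization.Away t.1) x = algebraMap R (Localization.Away t.1) y) →
      x = y := fun x y h => by
    rw [← sub_eq_zero, ← Submodule.mem_bot R]
    refine Submodule.mem_of_span_eq_top_of_smul_pow_mem _ _ hspanT _ ?_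
    rintro ⟨_, t, rfl⟩
    obtain ⟨⟨_, k, rfl⟩, hk⟩ := (IsLocalization.eq_iff_exists (Submonoid.powers t.1) (Localization.Away t.1)).1 (h t)
    exact ⟨k, by simp only at hk; rw [Submodule.mem_bot, smul_sub, smul_eq_mul, smul_eq_mul, hk, sub_self]⟩
  refine ⟨z, fun n => hinj _ _ fun t => ?_, fun n => ?_, fun n S _ _ f h => ?_⟩
  · rw [map_pow, hz, hz, (hσ t).perf]
  · refine Submodule.mem_of_span_eq_top_of_smul_pow_mem _ _ hspanT _ ?_
    rintro ⟨_, t, rfl⟩
    have h := (hσ t).mem n
    rw [← hz, IsScalarTower.algebraMap_apply A R (Localization.Away t.1) (a n),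
      IsScalarTower.algebraMap_apply A R (Localization.Away t.1) u, ← map_sub, ← Set.image_singleton,
      ← Ideal.map_span, IsLocalization.algebraMap_mem_map_algebraMap_iff (Submonoid.powers t.1)] at h
    obtain ⟨_, ⟨k, rfl⟩, hk⟩ := h
    exact ⟨k, hk⟩
  · letI : Algebra R S := f.toRingHom.toAlgebra
    haveI : IsScalarTower A R S := IsScalarTower.of_algebraMap_eq fun a => (f.commutes a).symm
    rw [← sub_eq_zero, ← Submodule.mem_bot S]
    have hspanS : Ideal.span (Set.range fun t : T => f t.1) = ⊤ := by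
      have := congrArg (Ideal.map f) hspanT
      rwa [Ideal.map_span, Ideal.map_top, ← Set.range_comp] at this
    refine Submodule.mem_of_span_eq_top_of_smul_pow_mem _ _ hspanS _ ?_
    rintro ⟨_, t, rfl⟩
    let S' := Localization.Away (f t.1)
    have ht : IsUnit (algebraMap R S' t.1) := by
      rw [IsScalarTower.algebraMap_apply R S S']
      exact IsLocalization.Away.algebraMap_isUnit (f t.1)
    let g : Localization.Away t.1 →ₐ[A] S' :=
      ({ IsLocalization.Away.lift (S := Localization.Away t.1) t.1 ht with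
        commutes' := fun a => IsLocalization.Away.lift_eq t.1 ht a } : Localization.Away t.1 →ₐ[R] S').restrictScalars A
    have hu' : IsUnit (algebraMap A S' u) := by
      rw [IsScalarTower.algebraMap_apply A S S']
      exact h.map _
    have h1 : algebraMap S S' (f (z n)) = algebraMap S S' (ev h (cu n)) := by
      rw [show algebraMap S S' (ev h (cu n)) = ev hu' (cu n) from map_ev (IsScalarTower.toAlgHom A S S') h hu' (cu n),
        ← (hσ t).away n S' g hu', ← hz n t]
      exact (IsLocalization.Away.lift_eq t.1 ht (z n)).symm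
    obtain ⟨⟨_, k, rfl⟩, hk⟩ := (IsLocalization.eq_iff_exists (Submonoid.powers (f t.1)) S').1 h1
    exact ⟨k, by simp only at hk; rw [Submodule.mem_bot, smul_sub, smul_eq_mul, smul_eq_mul, hk, sub_self]⟩

end Lift

/-- The two charts: perfect lifts on both charts descend to the base. -/
theorem exists_descent {A : Type u} [CommRing A] {p : ℕ} [Fact p.Prime] (hp : (p : A) = 0) (u v : A)
    (a : ℕ → A) (cu : ℕ → Localization.Away u) (cv : ℕ → Localization.Away v)
    (huv : ∀ (S : Type u) [CommRing S] [Algebra A S] (h₁ : IsUnit (algebraMap A S u))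
      (h₂ : IsUnit (algebraMap A S v)) (n : ℕ), ev h₁ (cu n) = ev h₂ (cv n))
    (hu : ∀ (R : Type u) [CommRing R] [Algebra A R] (t : R), algebraMap A R v = algebraMap A R u * t →
      ∃ σ : ℕ → R, IsLift p u a cu σ)
    (hv : ∀ (R : Type u) [CommRing R] [Algebra A R] (t : R), algebraMap A R u = algebraMap A R v * t →
      ∃ σ : ℕ → R, IsLift p v a cv σ) :
    ∃ c : ℕ → A, IsPerfectSeq p c ∧ (∀ n, c n - a n ∈ Ideal.span {u, v}) ∧
      (∀ n, algebraMap A (Localization.Away u) (c n) = cu n) ∧
      ∀ n, algebraMap A (Localization.Away v) (c n) = cv n := by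
  classical
  open Polynomial in
  let e₁ : A[X] := C u * X - C v
  let e₂ : Polynomial A := Polynomial.C v * Polynomial.X - Polynomial.C u
  let R₁ := Polynomial A ⧸ Ideal.span {e₁}
  let R₂ := Polynomial A ⧸ Ideal.span {e₂}
  let m₁ : Polynomial A →ₐ[A] R₁ := Ideal.Quotient.mkₐ A _
  let m₂ : Polynomial A →ₐ[A] R₂ := Ideal.Quotient.mkₐ A _
  have hC : ∀ {S : Type u} [CommRing S] [Algebra A S] (f : Polynomial A →ₐ[A] S) (x : A),
      f (Polynomial.C x) = algebraMap A S x := fun f x => f.commutes x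
  have ht₁ : algebraMap A R₁ v = algebraMap A R₁ u * m₁ Polynomial.X := by
    rw [← hC m₁, ← hC m₁, ← map_mul, eq_comm, ← sub_eq_zero, ← map_sub]
    exact Ideal.Quotient.eq_zero_iff_mem.2 (Ideal.subset_span rfl)
  have ht₂ : algebraMap A R₂ u = algebraMap A R₂ v * m₂ Polynomial.X := by
    rw [← hC m₂, ← hC m₂, ← map_mul, eq_comm, ← sub_eq_zero, ← map_sub]
    exact Ideal.Quotient.eq_zero_iff_mem.2 (Ideal.subset_span rfl)
  obtain ⟨σ₁, hσ₁⟩ := hu R₁ _ ht₁
  obtain ⟨σ₂, hσ₂⟩ := hv R₂ _ ht₂
  -- the overlap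
  let e : LaurentPolynomial A := LaurentPolynomial.C u * LaurentPolynomial.T 1 - LaurentPolynomial.C v
  let R₁₂ := LaurentPolynomial A ⧸ Ideal.span {e}
  let q : LaurentPolynomial A →ₐ[A] R₁₂ := Ideal.Quotient.mkₐ A _
  let θ₁ : Polynomial A →ₐ[A] LaurentPolynomial A := Polynomial.toLaurentAlg
  let θ₂ : Polynomial A →ₐ[A] LaurentPolynomial A :=
    LaurentPolynomial.invert.toAlgHom.comp Polynomial.toLaurentAlg
  have hθ₁X : θ₁ Polynomial.X = LaurentPolynomial.T 1 := Polynomial.toLaurent_X
  have hθ₂X : θ₂ Polynomial.X = LaurentPolynomial.T (-1) :=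
    (congrArg LaurentPolynomial.invert Polynomial.toLaurent_X).trans (LaurentPolynomial.invert_T 1)
  have hT : (LaurentPolynomial.T (-1) : LaurentPolynomial A) * LaurentPolynomial.T 1 = 1 := by
    rw [← LaurentPolynomial.T_add]; simp
  have hθe₁ : θ₁ e₁ = e := by
    simp only [e₁, map_sub, map_mul, hθ₁X, hC]
    rfl
  have hθe₂ : θ₂ e₂ = -(LaurentPolynomial.T (-1) * e) := by
    simp only [e₂, map_sub, map_mul, hθ₂X, hC, e]
    rw [show algebraMap A (LaurentPolynomial A) u = LaurentPolynomial.C u from rfl,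
      show algebraMap A (LaurentPolynomial A) v = LaurentPolynomial.C v from rfl]
    linear_combination (LaurentPolynomial.C u) * hT
  have hk₁ : ∀ x ∈ Ideal.span {e₁}, (q.comp θ₁) x = 0 := fun x hx => by
    obtain ⟨w, rfl⟩ := Ideal.mem_span_singleton'.1 hx
    rw [AlgHom.comp_apply, map_mul, hθe₁]
    exact Ideal.Quotient.eq_zero_iff_mem.2 (Ideal.mul_mem_left _ _ (Ideal.subset_span rfl))
  have hk₂ : ∀ x ∈ Ideal.span {e₂}, (q.comp θ₂) x = 0 := fun x hx => by
    obtain ⟨w, rfl⟩ := Ideal.mem_span_singleton'.1 hx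
    rw [AlgHom.comp_apply, map_mul, hθe₂]
    exact Ideal.Quotient.eq_zero_iff_mem.2
      (Ideal.mul_mem_left _ _ (neg_mem (Ideal.mul_mem_left _ _ (Ideal.subset_span rfl))))
  let f₁ : R₁ →ₐ[A] R₁₂ := Ideal.Quotient.liftₐ _ (q.comp θ₁) hk₁
  let f₂ : R₂ →ₐ[A] R₁₂ := Ideal.Quotient.liftₐ _ (q.comp θ₂) hk₂
  have hp₁₂ : (p : R₁₂) = 0 := by rw [← map_natCast (algebraMap A R₁₂), hp, map_zero]
  have hU : algebraMap A R₁₂ u * q (LaurentPolynomial.T 1) = algebraMap A R₁₂ v := by
    rw [← q.commutes, ← q.commutes, ← map_mul, ← sub_eq_zero, ← map_sub]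
    exact Ideal.Quotient.eq_zero_iff_mem.2 (Ideal.subset_span rfl)
  have hTu : IsUnit (q (LaurentPolynomial.T 1)) := (LaurentPolynomial.isUnit_T 1).map q
  have hmemv : ∀ x ∈ Ideal.span {algebraMap A R₁₂ v}, x ∈ Ideal.span {algebraMap A R₁₂ u} := fun x hx => by
    obtain ⟨w, rfl⟩ := Ideal.mem_span_singleton'.1 hx
    exact Ideal.mul_mem_left _ _ (hU ▸ Ideal.mul_mem_right _ _ (Ideal.subset_span rfl))
  have heq : ∀ n, f₁ (σ₁ n) = f₂ (σ₂ n) := by
    refine fun n => (hσ₁.map f₁).unique hp ⟨(hσ₂.map f₂).perf, fun n => hmemv _ ((hσ₂.map f₂).mem n), ?_⟩ n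
    intro n S _ _ g h
    have hv' : IsUnit (algebraMap A S v) := by
      rw [← g.commutes, ← hU, map_mul, g.commutes]
      exact h.mul (hTu.map g)
    exact ((hσ₂.map f₂).away n S g hv').trans (huv S h hv' n).symm
  -- lifts to the base
  have hbase : ∀ n, ∃ c' : A, algebraMap A R₁ c' = σ₁ n ∧ algebraMap A R₂ c' = σ₂ n := by
    intro n
    obtain ⟨P, hP⟩ : ∃ P, m₁ P = σ₁ n := Ideal.Quotient.mk_surjective _
    obtain ⟨Q, hQ⟩ : ∃ Q, m₂ Q = σ₂ n := Ideal.Quotient.mk_surjective _
    have h := heq n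
    rw [← hP, ← hQ] at h
    change q (θ₁ P) = q (θ₂ Q) at h
    obtain ⟨k, hk⟩ := Ideal.mem_span_singleton'.1 (Ideal.Quotient.eq.1 h)
    obtain ⟨k₁, k₂, rfl⟩ : ∃ k₁ k₂, k = θ₁ k₁ + LaurentPolynomial.T (-1) * θ₂ k₂ := by
      clear hk
      induction k using LaurentPolynomial.induction_on' with
      | add x y hx hy =>
        obtain ⟨x₁, x₂, rfl⟩ := hx
        obtain ⟨y₁, y₂, rfl⟩ := hy
        exact ⟨x₁ + y₁, x₂ + y₂, by simp only [map_add]; ring⟩
      | C_mul_T z a =>
        rcases z with z | z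
        · exact ⟨Polynomial.C a * Polynomial.X ^ z, 0, by
            rw [map_zero, mul_zero, add_zero, map_mul, map_pow, hθ₁X, hC, LaurentPolynomial.T_pow]
            simp⟩
        · exact ⟨0, Polynomial.C a * Polynomial.X ^ z, by
            rw [map_zero, zero_add, map_mul, map_pow, hθ₂X, hC, LaurentPolynomial.T_pow, mul_left_comm,
              ← LaurentPolynomial.T_add, show (algebraMap A (LaurentPolynomial A)) a = LaurentPolynomial.C a from rfl]
            congr 2
            rw [Int.negSucc_eq]; ring⟩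
    let P' := P - k₁ * e₁
    let Q' := Q - k₂ * e₂
    have hPQ : θ₁ P' = θ₂ Q' := by
      simp only [P', Q', map_sub, map_mul, hθe₁, hθe₂]
      linear_combination -hk
    have hP'C : P' = Polynomial.C (P'.coeff 0) := by
      ext i
      rcases i with _ | i
      · simp
      rw [Polynomial.coeff_C_succ]
      have h := congrArg (fun (f : LaurentPolynomial A) => f.coeff ((i : ℤ) + 1)) hPQ
      simp only [θ₁, θ₂, Polynomial.toLaurentAlg_apply, AlgHom.comp_apply, AlgEquiv.coe_toAlgHom,
        LaurentPolynomial.invert_apply] at h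
      rw [show ((i : ℤ) + 1) = ((i + 1 : ℕ) : ℤ) by simp] at h
      rw [Polynomial.toLaurent_apply, Polynomial.toLaurent_apply] at h
      simp only [AddMonoidAlgebra.coeff_mapDomain] at h
      rw [Finsupp.mapDomain_apply Nat.cast_injective, Finsupp.mapDomain_of_notMem_range] at h
      · exact h
      · rintro ⟨z, hz⟩
        omega
    refine ⟨P'.coeff 0, ?_, ?_⟩
    · rw [← hC m₁, ← hP'C, map_sub, hP, map_mul,
        show m₁ e₁ = 0 from Ideal.Quotient.eq_zero_iff_mem.2 (Ideal.subset_span rfl), mul_zero, sub_zero]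
    · have hinj : Function.Injective θ₂ := LaurentPolynomial.invert.injective.comp Polynomial.toLaurent_injective
      have hQ'C : Q' = Polynomial.C (P'.coeff 0) := hinj (by
        rw [← hPQ, hC θ₂, ← hC θ₁, ← hP'C])
      rw [← hC m₂, ← hQ'C, map_sub, hQ, map_mul,
        show m₂ e₂ = 0 from Ideal.Quotient.eq_zero_iff_mem.2 (Ideal.subset_span rfl), mul_zero, sub_zero]
  choose c' hc₁ hc₂ using hbase
  have hK : ∀ δ : A, algebraMap A R₁ δ = 0 → algebraMap A R₂ δ = 0 → δ * δ = 0 := by
    intro δ h₁ h₂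
    rw [← hC m₁] at h₁
    rw [← hC m₂] at h₂
    obtain ⟨P, hP⟩ := Ideal.mem_span_singleton'.1 (Ideal.Quotient.eq_zero_iff_mem.1 h₁)
    obtain ⟨Q, hQ⟩ := Ideal.mem_span_singleton'.1 (Ideal.Quotient.eq_zero_iff_mem.1 h₂)
    have hP0 := congrArg (fun f => Polynomial.coeff f 0) hP
    have hQ0 := congrArg (fun f => Polynomial.coeff f 0) hQ
    simp [e₁, e₂, mul_sub, ← mul_assoc] at hP0 hQ0
    have hPi : ∀ i, u * P.coeff i = v * P.coeff (i + 1) := fun i => by
      have := congrArg (fun f => Polynomial.coeff f (i + 1)) hP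
      simp [e₁, mul_sub, ← mul_assoc] at this
      linear_combination this
    have hQi : ∀ i, v * Q.coeff i = u * Q.coeff (i + 1) := fun i => by
      have := congrArg (fun f => Polynomial.coeff f (i + 1)) hQ
      simp [e₂, mul_sub, ← mul_assoc] at this
      linear_combination this
    have hF : ∀ i, (v * P.coeff i) * (u * Q.coeff i) = (v * P.coeff 0) * (u * Q.coeff 0) := fun i => by
      induction i with
      | zero => rfl
      | succ i ih =>
        rw [← ih, ← hPi, ← hQi]
        ring
    have := hF (P.natDegree + 1)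
    rw [Polynomial.coeff_eq_zero_of_natDegree_lt (Nat.lt_succ_self _), mul_zero, zero_mul] at this
    calc δ * δ = (v * P.coeff 0) * (u * Q.coeff 0) := by
          linear_combination (-δ) * hP0 + (P.coeff 0 * v) * hQ0
      _ = 0 := this.symm
  have h2p : ∀ x : A, x * x = 0 → x ^ p = 0 := fun x hx => by
    rw [show p = 2 + (p - 2) by have := (Fact.out : p.Prime).two_le; omega, pow_add, sq, hx, zero_mul]
  refine ⟨fun n => c' (n + 1) ^ p, fun n => ?_, fun n => ?_, fun n => ?_, fun n => ?_⟩
  · show (c' (n + 1 + 1) ^ p) ^ p = c' (n + 1) ^ p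
    rw [← sub_eq_zero, ← sub_pow₁ hp]
    refine h2p _ (hK _ ?_ ?_)
    · rw [map_sub, map_pow, hc₁, hc₁, hσ₁.perf, sub_self]
    · rw [map_sub, map_pow, hc₂, hc₂, hσ₂.perf, sub_self]
  · -- modulo the exceptional ideal
    let I : Ideal A := Ideal.span {u, v}
    have hk : ∀ x ∈ Ideal.span {e₁}, (Polynomial.mapAlgHom (Ideal.Quotient.mkₐ A I)) x = 0 := fun x hx => by
      obtain ⟨w, rfl⟩ := Ideal.mem_span_singleton'.1 hx
      rw [map_mul]
      convert mul_zero _
      simp [e₁, I, Ideal.Quotient.eq_zero_iff_mem.2 (Ideal.subset_span (Set.mem_insert u {v})),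
        Ideal.Quotient.eq_zero_iff_mem.2 (Ideal.subset_span (Set.mem_insert_of_mem u (Set.mem_singleton v)))]
    let g : R₁ →ₐ[A] Polynomial (A ⧸ I) := Ideal.Quotient.liftₐ _ _ hk
    have h1 := Ideal.mem_map_of_mem g (hσ₁.mem n)
    rw [Ideal.map_span, Set.image_singleton, AlgHom.commutes, ← hσ₁.perf n, ← hc₁, ← map_pow, ← map_sub,
      AlgHom.commutes] at h1
    rw [show algebraMap A (Polynomial (A ⧸ I)) u = 0 by
      rw [IsScalarTower.algebraMap_apply A (A ⧸ I) (Polynomial (A ⧸ I)), show algebraMap A (A ⧸ I) u = 0 from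
        Ideal.Quotient.eq_zero_iff_mem.2 (Ideal.subset_span (Set.mem_insert _ _)), map_zero],
      Ideal.span_singleton_eq_bot.2 rfl, Submodule.mem_bot,
      IsScalarTower.algebraMap_apply A (A ⧸ I) (Polynomial (A ⧸ I)), Polynomial.algebraMap_eq, Polynomial.C_eq_zero] at h1
    exact Ideal.Quotient.eq_zero_iff_mem.1 h1
  · let g : Polynomial A →ₐ[A] Localization.Away u :=
      Polynomial.aeval (IsLocalization.mk' (Localization.Away u) v ⟨u, Submonoid.mem_powers u⟩)
    have hk : ∀ x ∈ Ideal.span {e₁}, g x = 0 := fun x hx => by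
      obtain ⟨w, rfl⟩ := Ideal.mem_span_singleton'.1 hx
      simp only [g, e₁, map_mul, map_sub, Polynomial.aeval_X, Polynomial.aeval_C]
      rw [IsLocalization.mk'_spec'_mk, sub_self, mul_zero]
    let g' : R₁ →ₐ[A] Localization.Away u := Ideal.Quotient.liftₐ _ g hk
    have h1 := hσ₁.away n (Localization.Away u) g' (IsLocalization.Away.algebraMap_isUnit u)
    rw [← hσ₁.perf n, ← hc₁, map_pow, AlgHom.commutes, ← map_pow] at h1
    rw [h1]
    exact congrArg (fun φ => φ (cu n)) (IsLocalization.ringHom_ext (Submonoid.powers u)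
      (RingHom.ext fun x => by simp) :
        IsLocalization.Away.lift (S := Localization.Away u) u (IsLocalization.Away.algebraMap_isUnit u) = RingHom.id _)
  · let g : Polynomial A →ₐ[A] Localization.Away v :=
      Polynomial.aeval (IsLocalization.mk' (Localization.Away v) u ⟨v, Submonoid.mem_powers v⟩)
    have hk : ∀ x ∈ Ideal.span {e₂}, g x = 0 := fun x hx => by
      obtain ⟨w, rfl⟩ := Ideal.mem_span_singleton'.1 hx
      simp only [g, e₂, map_mul, map_sub, Polynomial.aeval_X, Polynomial.aeval_C]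
      rw [IsLocalization.mk'_spec'_mk, sub_self, mul_zero]
    let g' : R₂ →ₐ[A] Localization.Away v := Ideal.Quotient.liftₐ _ g hk
    have h1 := hσ₂.away n (Localization.Away v) g' (IsLocalization.Away.algebraMap_isUnit v)
    rw [← hσ₂.perf n, ← hc₂, map_pow, AlgHom.commutes, ← map_pow] at h1
    rw [h1]
    exact congrArg (fun φ => φ (cv n)) (IsLocalization.ringHom_ext (Submonoid.powers v)
      (RingHom.ext fun x => by simp) :
        IsLocalization.Away.lift (S := Localization.Away v) v (IsLocalization.Away.algebraMap_isUnit v) = RingHom.id _)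

end Groth.Agent.HTopFrobLim

end
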