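import Groth.Agent.HTopFrobLim.Ring
import Groth.Agent.HTopFrob.Square
import Groth.Agent.HTopAbu.Topology
import Mathlib

/-!
# Perfect sequences of functions on almost blow-up squares in two functions
-/

set_option autoImplicit false
set_option linter.style.haveILetI false
set_option backward.isDefEq.respectTransparency false
set_option backward.isDefEq.respectTransparency.types false

universe u

open CategoryTheory CategoryTheory.Limits AlgebraicGeometry TopologicalSpace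

noncomputable section

namespace Groth.Agent.HTopFrobLim

variable {X : Scheme.{u}} [IsAffine X]

variable (X) in
/-- The morphism to `X` of the spectrum of an algebra over its ring of functions. -/
def sp (R : Type u) [CommRing R] [Algebra Γ(X, ⊤) R] : Spec (CommRingCat.of R) ⟶ X :=
  Spec.map (CommRingCat.ofHom (algebraMap Γ(X, ⊤) R)) ≫ X.isoSpec.inv

theorem map_sp {R R' : Type u} [CommRing R] [Algebra Γ(X, ⊤) R] [CommRing R'] [Algebra Γ(X, ⊤) R']
    (f : R →ₐ[Γ(X, ⊤)] R') : Spec.map (CommRingCat.ofHom f.toRingHom) ≫ sp X R = sp X R' := by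
  rw [sp, sp, ← Category.assoc, ← Spec.map_comp]
  congr 2
  ext a
  exact f.commutes a

/-- Pullback of functions to the spectrum of a ring. -/
def sval {R : Type u} [CommRing R] {Y : Scheme.{u}} (g : Spec (CommRingCat.of R) ⟶ Y) : Γ(Y, ⊤) →+* R :=
  (g.appTop ≫ (Scheme.ΓSpecIso (CommRingCat.of R)).hom).hom

theorem sval_comp {R : Type u} [CommRing R] {Y Y' : Scheme.{u}} (g : Spec (CommRingCat.of R) ⟶ Y) (h : Y ⟶ Y')
    (x : Γ(Y', ⊤)) : sval (g ≫ h) x = sval g (h.appTop.hom x) := by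
  simp [sval, Scheme.Hom.comp_appTop]

theorem sval_specMap {R R' : Type u} [CommRing R] [CommRing R'] (f : R →+* R') {Y : Scheme.{u}}
    (g : Spec (CommRingCat.of R) ⟶ Y) (x : Γ(Y, ⊤)) :
    sval (Spec.map (CommRingCat.ofHom f) ≫ g) x = f (sval g x) := by
  show ((Spec.map (CommRingCat.ofHom f) ≫ g).appTop ≫ (Scheme.ΓSpecIso (CommRingCat.of R')).hom).hom x = _
  rw [Scheme.Hom.comp_appTop, Category.assoc, Scheme.ΓSpecIso_naturality]
  rfl

theorem sval_fromSpec {Y : Scheme.{u}} {O : Y.Opens} (hO : IsAffineOpen O) (x : Γ(Y, ⊤)) :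
    sval (R := Γ(Y, O)) hO.fromSpec x = (Y.presheaf.map (homOfLE le_top).op).hom x := by
  have h : hO.fromSpec.appTop ≫ (Scheme.ΓSpecIso Γ(Y, O)).hom = Y.presheaf.map (homOfLE le_top).op := by
    rw [Scheme.Hom.appTop, hO.fromSpec_app_of_le ⊤ le_top]
    simp
  exact congrArg (fun m => m.hom x) h

theorem sval_sp {R : Type u} [CommRing R] [Algebra Γ(X, ⊤) R] (x : Γ(X, ⊤)) :
    sval (sp X R) x = algebraMap Γ(X, ⊤) R x := by
  rw [sp, ← IsAffineOpen.fromSpec_top, sval_specMap, sval_fromSpec]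
  simp

variable {E Z X' : Scheme.{u}} {e : E ⟶ X'} {π : E ⟶ Z} {b : X' ⟶ X} {i : Z ⟶ X}
  (h : HTop.IsAlmostBlowUpSquare e π b i) {u v : Γ(X, ⊤)}
  (hker : i.ker = Scheme.IdealSheafData.ofIdealTop (Ideal.span {u, v}))

include h hker in
theorem basicOpen_le (w : Γ(X, ⊤)) (hw : w ∈ Ideal.span {u, v}) : X.basicOpen w ≤ i.ker.support.compl := by
  intro y hy hmem
  have h1 : y ∈ (i.ker.support : Set X) ∩ (⊤ : X.Opens) := ⟨hmem, trivial⟩
  rw [i.ker.coe_support_inter ⟨⊤, isAffineOpen_top X⟩] at h1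
  refine (Scheme.mem_zeroLocus_iff _ _ _).1 h1.1 w ?_ hy
  rw [hker, Scheme.IdealSheafData.ofIdealTop_ideal]
  simpa using hw

include h hker in
/-- There is exactly one point of the almost blow-up where the ideal of the centre is trivial. -/
theorem existsUnique_pt {R : Type u} [CommRing R] [Algebra Γ(X, ⊤) R] {w : Γ(X, ⊤)} (hw : w ∈ Ideal.span {u, v})
    (hunit : IsUnit (algebraMap Γ(X, ⊤) R w)) :
    ∃! g : Spec (CommRingCat.of R) ⟶ X', g ≫ b = sp X R := by
  let U : X.Opens := i.ker.support.compl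
  haveI := HTopFrob.isIso_restrict_square h
  have hr : Set.range (sp X R) ⊆ Set.range U.ι := by
    rw [Scheme.Opens.range_ι]
    rintro - ⟨y, rfl⟩
    refine basicOpen_le h hker w hw ?_
    have h1 : y ∈ sp X R ⁻¹ᵁ X.basicOpen w := by
      rw [Scheme.preimage_basicOpen_top, Scheme.basicOpen_of_isUnit]
      · trivial
      · have h2 : IsUnit ((Scheme.ΓSpecIso (CommRingCat.of R)).hom ((sp X R).appTop w)) := by
          have h3 : sval (sp X R) w = algebraMap Γ(X, ⊤) R w := sval_sp w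
          exact h3.symm ▸ hunit
        exact (isUnit_map_iff (Scheme.ΓSpecIso (CommRingCat.of R)).commRingCatIsoToRingEquiv _).1 h2
    exact h1
  let l := IsOpenImmersion.lift U.ι (sp X R) hr
  refine ⟨l ≫ inv (b ∣_ U) ≫ (b ⁻¹ᵁ U).ι, ?_, fun g hg => ?_⟩
  · simp only [Category.assoc]
    rw [← morphismRestrict_ι, IsIso.inv_hom_id_assoc, IsOpenImmersion.lift_fac]
  · have hr' : Set.range g ⊆ Set.range (b ⁻¹ᵁ U).ι := by
      rw [Scheme.Opens.range_ι]
      rintro - ⟨y, rfl⟩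
      have h1 : (g ≫ b) y ∈ Set.range U.ι := hr ⟨y, by rw [hg]⟩
      rw [Scheme.Opens.range_ι] at h1
      exact h1
    rw [← IsOpenImmersion.lift_fac (b ⁻¹ᵁ U).ι g hr', ← Category.assoc]
    congr 1
    rw [← cancel_mono (b ∣_ U), Category.assoc, IsIso.inv_hom_id, Category.comp_id, ← cancel_mono U.ι, Category.assoc,
      morphismRestrict_ι, IsOpenImmersion.lift_fac_assoc, hg, IsOpenImmersion.lift_fac]

variable {p : ℕ} [Fact p.Prime] (t : HTop.FrobLimSections p Z) (s : HTop.FrobLimSections p X')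

include h hker in
/-- Modulo the ideal of the centre, the sections on the almost blow-up are the sections on the centre. -/
theorem sval_eq_of_map_eq_zero (hts : ∀ n, π.appTop.hom (t.1 n) = e.appTop.hom (s.1 n)) {a : ℕ → Γ(X, ⊤)}
    (ha : ∀ n, i.appTop.hom (a n) = t.1 n) {R : Type u} [CommRing R] [Algebra Γ(X, ⊤) R]
    (h0 : ∀ x ∈ Ideal.span {u, v}, algebraMap Γ(X, ⊤) R x = 0) (g : Spec (CommRingCat.of R) ⟶ X')
    (hg : g ≫ b = sp X R) (n : ℕ) : sval g (s.1 n) = algebraMap Γ(X, ⊤) R (a n) := by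
  haveI := h.isClosedImmersion
  haveI : IsAffine Z := isAffine_of_isAffineHom i
  have hI : RingHom.ker i.appTop.hom = Ideal.span {u, v} := by
    have h1 := congrArg (fun 𝓙 : X.IdealSheafData => 𝓙.ideal ⟨⊤, isAffineOpen_top X⟩) hker
    simp only [Scheme.Hom.ker_apply, Scheme.IdealSheafData.ofIdealTop_ideal] at h1
    rw [show RingHom.ker i.appTop.hom = RingHom.ker (i.app ⊤).hom from rfl, h1]
    simp
  let φ : Γ(Z, ⊤) →+* R := RingHom.liftOfSurjective i.appTop.hom (i.app_surjective ⊤ (isAffineOpen_top X))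
    ⟨algebraMap Γ(X, ⊤) R, fun x hx => h0 x (hI ▸ hx)⟩
  have hφ : ∀ x, φ (i.appTop.hom x) = algebraMap Γ(X, ⊤) R x := fun x =>
    RingHom.liftOfSurjective_comp_apply i.appTop.hom _ _ x
  let k := Spec.map (CommRingCat.ofHom φ) ≫ Z.isoSpec.inv
  have hk : k ≫ i = sp X R := by
    rw [Category.assoc, ← Scheme.isoSpec_inv_naturality, ← Category.assoc, ← Spec.map_comp, sp]
    congr 2
    ext x
    exact hφ x
  let l := h.isPullback.lift g k (hg.trans hk.symm)
  have h1 := congrArg (sval l) (hts n)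
  rw [← sval_comp, ← sval_comp, h.isPullback.lift_snd, h.isPullback.lift_fst, ← ha n, ← sval_comp, hk, sval_sp] at h1
  exact h1.symm

include h hker in
/-- On a chart, the blow-up gives a point modulo the torsion of `u`. -/
theorem exists_pt_chart {R : Type u} [CommRing R] [Algebra Γ(X, ⊤) R] (w : R)
    (hw : algebraMap Γ(X, ⊤) R v = algebraMap Γ(X, ⊤) R u * w) (T : Ideal R)
    (hT : ∀ x : R, algebraMap Γ(X, ⊤) R u * x ∈ T → x ∈ T) :
    ∃ g : Spec (CommRingCat.of (R ⧸ T)) ⟶ X', g ≫ b = sp X (R ⧸ T) := by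
  let P := Spec (CommRingCat.of (R ⧸ T))
  have hap : ∀ x, (sp X (R ⧸ T)).appTop.hom x =
      (Scheme.ΓSpecIso (CommRingCat.of (R ⧸ T))).inv (algebraMap Γ(X, ⊤) (R ⧸ T) x) := fun x => by
    rw [← sval_sp (R := R ⧸ T) x]
    exact ((Scheme.ΓSpecIso (CommRingCat.of (R ⧸ T))).commRingCatIsoToRingEquiv.symm_apply_apply _).symm
  have hcart : BlowUp.IsEffCartierIdeal (i.ker.comap (sp X (R ⧸ T))) := by
    intro y
    refine ⟨⟨⊤, isAffineOpen_top P⟩, trivial,
      (Scheme.ΓSpecIso (CommRingCat.of (R ⧸ T))).inv (algebraMap Γ(X, ⊤) (R ⧸ T) u), ?_, ?_⟩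
    · have h1 : algebraMap Γ(X, ⊤) (R ⧸ T) u ∈ nonZeroDivisors (R ⧸ T) := by
        refine mem_nonZeroDivisors_iff_right.2 fun x hx => ?_
        obtain ⟨x, rfl⟩ := Ideal.Quotient.mk_surjective x
        rw [Ideal.Quotient.eq_zero_iff_mem]
        refine hT x ?_
        rw [← Ideal.Quotient.eq_zero_iff_mem, map_mul, mul_comm]
        exact hx
      exact mem_nonZeroDivisors_iff_right.2 fun x hx => by
        let ε := (Scheme.ΓSpecIso (CommRingCat.of (R ⧸ T))).commRingCatIsoToRingEquiv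
        refine ε.injective ((mem_nonZeroDivisors_iff_right.1 h1 (ε x) ?_).trans (map_zero ε).symm)
        have h2 := congrArg ε hx
        rw [map_mul, map_zero] at h2
        exact (congrArg (ε x * ·) (ε.apply_symm_apply (algebraMap Γ(X, ⊤) (R ⧸ T) u))).symm.trans h2
    · rw [hker, HTopAbu.ideal_comap_ofIdealTop, Scheme.IdealSheafData.ofIdealTop_ideal]
      simp only [homOfLE_refl, op_id, CategoryTheory.Functor.map_id, CommRingCat.hom_id, Ideal.map_id, Ideal.map_span,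
        Set.image_insert_eq, Set.image_singleton, hap]
      refine le_antisymm (Ideal.span_le.2 (Set.insert_subset (Ideal.subset_span rfl) ?_))
        (Ideal.span_mono (by simp))
      rw [Set.singleton_subset_iff, SetLike.mem_coe, IsScalarTower.algebraMap_apply Γ(X, ⊤) R (R ⧸ T) v, hw,
        map_mul, ← IsScalarTower.algebraMap_apply, map_mul]
      exact Ideal.mul_mem_right _ _ (Ideal.subset_span rfl)
  obtain ⟨g, hg, -⟩ := h.isBlowUp.2 _ _ hcart
  exact ⟨g ≫ (HTop.supportedOn (i.ker.comap b)).subschemeι, by rw [Category.assoc]; exact hg⟩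

include h hker in
/-- Lifts exist on a chart. -/
theorem exists_lift_chart (hp : (p : Γ(X, ⊤)) = 0) (hts : ∀ n, π.appTop.hom (t.1 n) = e.appTop.hom (s.1 n))
    {a : ℕ → Γ(X, ⊤)} (ha : ∀ n, i.appTop.hom (a n) = t.1 n)
    (ha' : ∀ n, a (n + 1) ^ p - a n ∈ Ideal.span {u, v}) {cu : ℕ → Localization.Away u} (hcu : IsPerfectSeq p cu)
    (hcu' : ∀ (R : Type u) [CommRing R] [Algebra Γ(X, ⊤) R] (hu : IsUnit (algebraMap Γ(X, ⊤) R u))
      (g : Spec (CommRingCat.of R) ⟶ X'), g ≫ b = sp X R → ∀ n, sval g (s.1 n) = ev hu (cu n))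
    (R : Type u) [CommRing R] [Algebra Γ(X, ⊤) R] (w : R)
    (hw : algebraMap Γ(X, ⊤) R v = algebraMap Γ(X, ⊤) R u * w) : ∃ σ : ℕ → R, IsLift p u a cu σ := by
  classical
  haveI := h.finitePresentation
  let uR := algebraMap Γ(X, ⊤) R u
  have hIR : ∀ x ∈ Ideal.span {u, v}, algebraMap Γ(X, ⊤) R x ∈ Ideal.span {uR} := fun x hx => by
    obtain ⟨c, d, rfl⟩ := Ideal.mem_span_pair.1 hx
    rw [map_add, map_mul, map_mul, hw]
    exact add_mem (Ideal.mul_mem_left _ _ (Ideal.subset_span rfl))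
      (Ideal.mul_mem_left _ _ (Ideal.mul_mem_right _ _ (Ideal.subset_span rfl)))
  refine IsLift.localAway hp (fun n => hIR _ (ha' n)) hcu fun P hP => ?_
  let T : Ideal R :=
    { carrier := {x | ∃ m : ℕ, uR ^ m * x = 0}
      add_mem' := by
        rintro x y ⟨m, hm⟩ ⟨m', hm'⟩
        exact ⟨m + m', by rw [pow_add]; linear_combination (uR ^ m') * hm + (uR ^ m) * hm'⟩
      zero_mem' := ⟨0, mul_zero _⟩
      smul_mem' := by
        rintro c x ⟨m, hm⟩
        exact ⟨m, by rw [smul_eq_mul]; linear_combination c * hm⟩ }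
  by_cases hTP : T ≤ P
  swap
  · obtain ⟨r, ⟨m, hm⟩, hrP⟩ := SetLike.not_le_iff_exists.1 hTP
    refine ⟨r, hrP, ⊤, m, fun _ => 0, fun x _ => ?_, fun _ => trivial, fun _ => Submodule.mem_sup_left trivial,
      fun n S _ _ f hu => ?_⟩
    all_goals
      have h1 : algebraMap Γ(X, ⊤) (Localization.Away r) u ^ m = 0 := by
        refine (IsLocalization.Away.algebraMap_isUnit r).mul_left_eq_zero.1 ?_
        rw [IsScalarTower.algebraMap_apply Γ(X, ⊤) R (Localization.Away r), ← map_pow, ← map_mul, hm, map_zero]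
    · rw [h1, zero_mul]
    · have h2 : algebraMap Γ(X, ⊤) S u ^ m = 0 := by rw [← f.commutes, ← map_pow, h1, map_zero]
      haveI : Subsingleton S := isUnit_zero_iff.1 (h2 ▸ hu.pow m) |> fun h01 => subsingleton_of_zero_eq_one h01
      exact Subsingleton.elim _ _
  obtain ⟨g, hg⟩ := exists_pt_chart h hker w hw T fun x ⟨m, hm⟩ =>
    ⟨m + 1, by rw [pow_succ, mul_assoc, hm]⟩
  haveI : (P.map (Ideal.Quotient.mk T)).IsPrime :=
    Ideal.map_isPrime_of_surjective Ideal.Quotient.mk_surjective (by simpa using hTP)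
  let y : Spec (CommRingCat.of (R ⧸ T)) := (⟨P.map (Ideal.Quotient.mk T), inferInstance⟩ : PrimeSpectrum (R ⧸ T))
  obtain ⟨O, hO, hyO, -⟩ := exists_isAffineOpen_mem_and_subset (x := g y) (U := (⊤ : X'.Opens)) trivial
  obtain ⟨_, ⟨r₀, rfl⟩, hyr, hrO⟩ := PrimeSpectrum.isTopologicalBasis_basic_opens.exists_subset_of_mem_open
    (show y ∈ (g ⁻¹ᵁ O : Set (Spec (CommRingCat.of (R ⧸ T)))) from hyO) (g ⁻¹ᵁ O).2
  obtain ⟨r, rfl⟩ := Ideal.Quotient.mk_surjective r₀
  refine ⟨r, fun hr => hyr (Ideal.mem_map_of_mem _ hr), ?_⟩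
  let R' := Localization.Away r
  let T' : Ideal R' := T.map (algebraMap R R')
  let q : (R ⧸ T) →ₐ[Γ(X, ⊤)] R' ⧸ T' :=
    Ideal.Quotient.liftₐ T ((Ideal.Quotient.mkₐ Γ(X, ⊤) T').comp (IsScalarTower.toAlgHom Γ(X, ⊤) R R'))
      fun x hx => Ideal.Quotient.eq_zero_iff_mem.2 (Ideal.mem_map_of_mem _ hx)
  let g' := Spec.map (CommRingCat.ofHom q.toRingHom) ≫ g
  have hg' : g' ≫ b = sp X (R' ⧸ T') := by rw [Category.assoc, hg, map_sp]
  have hr' : Set.range g' ⊆ Set.range hO.fromSpec := by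
    rw [hO.range_fromSpec]
    rintro - ⟨z, rfl⟩
    refine hrO (show (Spec.map (CommRingCat.ofHom q.toRingHom) z) ∈ _ from fun hz => z.2.ne_top ?_)
    exact Ideal.eq_top_of_isUnit_mem _ hz ((IsLocalization.Away.algebraMap_isUnit r).map (Ideal.Quotient.mk T'))
  obtain ⟨φ₀, hφ₀⟩ := Spec.map_surjective (IsOpenImmersion.lift hO.fromSpec g' hr')
  have hle : O ≤ b ⁻¹ᵁ ⊤ := le_top
  letI : Algebra Γ(X, ⊤) Γ(X', O) := (b.appLE ⊤ O hle).hom.toAlgebra
  have hO' : hO.fromSpec ≫ b = sp X Γ(X', O) := by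
    rw [← IsAffineOpen.SpecMap_appLE_fromSpec b (isAffineOpen_top X) hO hle, IsAffineOpen.fromSpec_top]
    rfl
  have hφ₀' : ∀ x, φ₀.hom (algebraMap Γ(X, ⊤) Γ(X', O) x) = algebraMap Γ(X, ⊤) (R' ⧸ T') x := fun x => by
    have h1 : Spec.map φ₀ ≫ sp X Γ(X', O) = sp X (R' ⧸ T') := by
      rw [← hO', ← Category.assoc, hφ₀, IsOpenImmersion.lift_fac, hg']
    rw [sp, sp, ← Category.assoc, cancel_mono, ← Spec.map_comp] at h1
    exact congrArg (fun m => m.hom x) (Spec.map_injective h1)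
  let φ : Γ(X', O) →ₐ[Γ(X, ⊤)] R' ⧸ T' := { φ₀.hom with commutes' := hφ₀' }
  haveI : Algebra.FinitePresentation Γ(X, ⊤) Γ(X', O) :=
    HasRingHomProperty.appLE @LocallyOfFinitePresentation b ‹_› ⟨⊤, isAffineOpen_top X⟩ ⟨O, hO⟩ hle
  obtain ⟨N, π', hπ', ⟨G, hG⟩⟩ := Algebra.FinitePresentation.out (R := Γ(X, ⊤)) (A := Γ(X', O))
  choose l₀ hl₀ using fun j => Ideal.Quotient.mk_surjective (φ (π' (MvPolynomial.X j)))
  let ψ : MvPolynomial (Fin N) Γ(X, ⊤) →ₐ[Γ(X, ⊤)] R' := MvPolynomial.aeval l₀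
  have hψ : (Ideal.Quotient.mkₐ Γ(X, ⊤) T').comp ψ = φ.comp π' :=
    MvPolynomial.algHom_ext fun j => by simpa [ψ] using hl₀ j
  let J : Ideal R' := Ideal.span (ψ '' (G : Set (MvPolynomial (Fin N) Γ(X, ⊤))))
  have hJT : ∀ x ∈ G, ∃ m : ℕ, algebraMap Γ(X, ⊤) R' u ^ m * ψ x = 0 := fun x hx => by
    have h1 : ψ x ∈ T' := by
      rw [← Ideal.Quotient.eq_zero_iff_mem]
      refine (DFunLike.congr_fun hψ x).trans ?_
      have h2 : π' x = 0 := RingHom.mem_ker.1 (hG ▸ Submodule.subset_span hx)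
      simp [h2]
    obtain ⟨⟨⟨c, m, hm⟩, d⟩, hcd⟩ := (IsLocalization.mem_map_algebraMap_iff (Submonoid.powers r) R').1 h1
    refine ⟨m, (IsLocalization.map_units R' d).mul_left_eq_zero.1 ?_⟩
    rw [mul_assoc, hcd, IsScalarTower.algebraMap_apply Γ(X, ⊤) R R', ← map_pow, ← map_mul]
    exact (congrArg _ hm).trans (map_zero _)
  choose m hm using hJT
  let M := G.attach.sup fun x => m x.1 x.2
  have hJ : ∀ x ∈ J, algebraMap Γ(X, ⊤) R' u ^ M * x = 0 := fun x hx => by
    induction hx using Submodule.span_induction with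
    | mem x hx =>
      obtain ⟨x, hx, rfl⟩ := hx
      obtain ⟨d, hd⟩ := Nat.exists_eq_add_of_le (Finset.le_sup (f := fun x : G => m x.1 x.2) (Finset.mem_attach _ ⟨x, hx⟩))
      rw [show M = m x hx + d from hd, pow_add, mul_assoc, mul_left_comm, hm x hx, mul_zero]
    | zero => rw [mul_zero]
    | add _ _ _ _ h1 h2 => rw [mul_add, h1, h2, add_zero]
    | smul c x _ h1 => rw [smul_eq_mul, mul_left_comm, h1, mul_zero]
  have hkerπ : RingHom.ker π'.toRingHom ≤ RingHom.ker ((Ideal.Quotient.mkₐ Γ(X, ⊤) J).comp ψ).toRingHom := by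
    refine hG ▸ Ideal.span_le.2 fun x hx => ?_
    exact Ideal.Quotient.eq_zero_iff_mem.2 (Ideal.subset_span ⟨x, hx, rfl⟩)
  let φJ : Γ(X', O) →+* R' ⧸ J := RingHom.liftOfSurjective π'.toRingHom hπ'
    ⟨((Ideal.Quotient.mkₐ Γ(X, ⊤) J).comp ψ).toRingHom, hkerπ⟩
  let φJa : Γ(X', O) →ₐ[Γ(X, ⊤)] R' ⧸ J :=
    { φJ with
      commutes' := fun x => by
        show φJ (algebraMap Γ(X, ⊤) Γ(X', O) x) = _
        rw [← π'.commutes x]
        exact (RingHom.liftOfSurjective_comp_apply π'.toRingHom hπ' _ _).trans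
          (((Ideal.Quotient.mkₐ Γ(X, ⊤) J).comp ψ).commutes x) }
  let so : ℕ → Γ(X', O) := fun n => (X'.presheaf.map (homOfLE le_top).op).hom (s.1 n)
  have hpt : ∀ (S : Type u) [CommRing S] [Algebra Γ(X, ⊤) S] (f : Γ(X', O) →ₐ[Γ(X, ⊤)] S),
      ∃ g₁ : Spec (CommRingCat.of S) ⟶ X', g₁ ≫ b = sp X S ∧ ∀ n, sval g₁ (s.1 n) = f (so n) := fun S _ _ f =>
    ⟨Spec.map (CommRingCat.ofHom f.toRingHom) ≫ hO.fromSpec, by rw [Category.assoc, hO', map_sp], fun n => by
      rw [sval_specMap, sval_fromSpec]; rfl⟩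
  choose l hl using fun n => Ideal.Quotient.mk_surjective (φJa (so n))
  refine ⟨J, M, l, hJ, fun n => ?_, fun n => ?_, fun n S _ _ f hu => ?_⟩
  · rw [← Ideal.Quotient.eq, map_pow, hl, hl, ← map_pow]
    congr 1
    show so (n + 1) ^ p = so n
    rw [← map_pow, s.2]
  · let K : Ideal R' := J ⊔ Ideal.span {algebraMap Γ(X, ⊤) R' u}
    let c : (R' ⧸ J) →ₐ[Γ(X, ⊤)] R' ⧸ K :=
      Ideal.Quotient.liftₐ J (Ideal.Quotient.mkₐ Γ(X, ⊤) K) fun x hx =>
        Ideal.Quotient.eq_zero_iff_mem.2 (Submodule.mem_sup_left hx)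
    obtain ⟨g₁, hg₁, hsv⟩ := hpt _ (c.comp φJa)
    have h0 : ∀ x ∈ Ideal.span {u, v}, algebraMap Γ(X, ⊤) (R' ⧸ K) x = 0 := fun x hx => by
      rw [IsScalarTower.algebraMap_apply Γ(X, ⊤) R' (R' ⧸ K)]
      refine Ideal.Quotient.eq_zero_iff_mem.2 (Submodule.mem_sup_right ?_)
      have h1 := Ideal.mem_map_of_mem (algebraMap R R') (hIR x hx)
      rw [Ideal.map_span, Set.image_singleton] at h1
      rw [← IsScalarTower.algebraMap_apply, ← IsScalarTower.algebraMap_apply] at h1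
      exact h1
    have h1 := (hsv n).symm.trans (sval_eq_of_map_eq_zero h hker t s hts ha h0 g₁ hg₁ n)
    rw [AlgHom.comp_apply, ← hl] at h1
    exact Ideal.Quotient.eq.1 h1
  · have hfJ : ∀ x ∈ J, f x = 0 := fun x hx => by
      have h1 := congrArg f (hJ x hx)
      rw [map_mul, map_pow, map_zero, f.commutes] at h1
      exact (hu.pow M).mul_left_cancel (by rw [h1, mul_zero])
    obtain ⟨g₁, hg₁, hsv⟩ := hpt _ ((Ideal.Quotient.liftₐ J f hfJ).comp φJa)
    rw [← hcu' S hu g₁ hg₁ n, hsv, AlgHom.comp_apply, ← hl]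
    rfl

include h hker in
/-- Cartesian squares of perfect sequences. -/
theorem existsUnique_square (hp : (p : Γ(X, ⊤)) = 0)
    (hts : ∀ n, π.appTop.hom (t.1 n) = e.appTop.hom (s.1 n)) :
    ∃! c : HTop.FrobLimSections p X, HTop.FrobLimSections.map p i c = t ∧ HTop.FrobLimSections.map p b c = s := by
  haveI := h.isClosedImmersion
  haveI : IsAffine Z := isAffine_of_isAffineHom i
  have hI : RingHom.ker i.appTop.hom = Ideal.span {u, v} := by
    have h1 := congrArg (fun 𝓙 : X.IdealSheafData => 𝓙.ideal ⟨⊤, isAffineOpen_top X⟩) hker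
    simp only [Scheme.Hom.ker_apply, Scheme.IdealSheafData.ofIdealTop_ideal] at h1
    rw [show RingHom.ker i.appTop.hom = RingHom.ker (i.app ⊤).hom from rfl, h1]
    simp
  have hsurj : ∀ n, ∃ x : Γ(X, ⊤), i.appTop.hom x = t.1 n := fun n => i.app_surjective ⊤ (isAffineOpen_top X) (t.1 n)
  choose a ha using hsurj
  have ha' : ∀ n, a (n + 1) ^ p - a n ∈ Ideal.span {u, v} := fun n => by
    rw [← hI, RingHom.mem_ker, map_sub, map_pow]
    rw [ha, ha, t.2, sub_self]
  have hsp : IsPerfectSeq p s.1 := s.2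
  have hu : u ∈ Ideal.span {u, v} := Ideal.subset_span (Set.mem_insert _ _)
  have hv : v ∈ Ideal.span {u, v} := Ideal.subset_span (Set.mem_insert_of_mem _ rfl)
  have hcw : ∀ w ∈ Ideal.span {u, v}, ∃ cw : ℕ → Localization.Away w, IsPerfectSeq p cw ∧
      ∀ (R : Type u) [CommRing R] [Algebra Γ(X, ⊤) R] (hw : IsUnit (algebraMap Γ(X, ⊤) R w))
        (g : Spec (CommRingCat.of R) ⟶ X'), g ≫ b = sp X R → ∀ n, sval g (s.1 n) = ev hw (cw n) := by
    intro w hw
    obtain ⟨g₀, hg₀, -⟩ := existsUnique_pt h hker (R := Localization.Away w) hw (IsLocalization.Away.algebraMap_isUnit w)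
    refine ⟨fun n => sval g₀ (s.1 n), hsp.map (sval g₀), fun R _ _ hwR g hg n => ?_⟩
    let f : Localization.Away w →ₐ[Γ(X, ⊤)] R :=
      { IsLocalization.Away.lift (S := Localization.Away w) w hwR with
        commutes' := fun x => IsLocalization.Away.lift_eq w hwR x }
    rw [(existsUnique_pt h hker hw hwR).unique hg (y₂ := Spec.map (CommRingCat.ofHom f.toRingHom) ≫ g₀)
      (by rw [Category.assoc, hg₀, map_sp]), sval_specMap]
    rfl
  obtain ⟨cu, hcu, hcu'⟩ := hcw u hu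
  obtain ⟨cv, hcv, hcv'⟩ := hcw v hv
  have hswap : Ideal.span {v, u} = Ideal.span {u, v} := by rw [Set.pair_comm]
  have hker' : i.ker = Scheme.IdealSheafData.ofIdealTop (Ideal.span {v, u}) := by rw [hswap]; exact hker
  obtain ⟨c, hc, hca, hcu₁, hcv₁⟩ := exists_descent hp u v a cu cv
    (fun S _ _ h₁ h₂ n => by
      obtain ⟨g, hg, -⟩ := existsUnique_pt h hker hu h₁
      exact (hcu' S h₁ g hg n).symm.trans (hcv' S h₂ g hg n))
    (fun R _ _ w hw => exists_lift_chart h hker t s hp hts ha ha' hcu hcu' R w hw)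
    (fun R _ _ w hw => exists_lift_chart h hker' t s hp hts ha (fun n => hswap ▸ ha' n) hcv hcv' R w hw)
  have hcev : ∀ (R : Type u) [CommRing R] [Algebra Γ(X, ⊤) R] (w : Γ(X, ⊤)) (hw : IsUnit (algebraMap Γ(X, ⊤) R w))
      (x : Γ(X, ⊤)), algebraMap Γ(X, ⊤) R x = ev hw (algebraMap Γ(X, ⊤) (Localization.Away w) x) :=
    fun R _ _ w hw x => (IsLocalization.Away.lift_eq w hw x).symm
  refine ⟨⟨c, hc⟩, ⟨?_, ?_⟩, fun d hd => ?_⟩
  · ext n
    show i.appTop.hom (c n) = t.1 n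
    rw [← ha n]
    exact sub_eq_zero.1 (by rw [← map_sub]; exact RingHom.mem_ker.1 (hI ▸ hca n))
  · ext n
    show b.appTop.hom (c n) = s.1 n
    refine TopCat.Sheaf.eq_of_locally_eq' X'.sheaf (fun O : X'.affineOpens => (O.1 : X'.Opens)) ⊤
      (fun O => homOfLE le_top) (by rw [iSup_affineOpens_eq_top]) _ _ fun ⟨O, hO⟩ => ?_
    have hle : O ≤ b ⁻¹ᵁ ⊤ := le_top
    letI : Algebra Γ(X, ⊤) Γ(X', O) := (b.appLE ⊤ O hle).hom.toAlgebra
    let g : Spec (CommRingCat.of Γ(X', O)) ⟶ X' := hO.fromSpec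
    have hg : g ≫ b = sp X Γ(X', O) := by
      show hO.fromSpec ≫ b = _
      rw [← IsAffineOpen.SpecMap_appLE_fromSpec b (isAffineOpen_top X) hO hle, IsAffineOpen.fromSpec_top]
      rfl
    show (X'.presheaf.map (homOfLE le_top).op).hom (b.appTop.hom (c n)) =
      (X'.presheaf.map (homOfLE le_top).op).hom (s.1 n)
    rw [← sval_fromSpec hO, ← sval_fromSpec hO]
    show sval g (b.appTop.hom (c n)) = sval g (s.1 n)
    rw [← sval_comp, hg, sval_sp]
    have hpO : (p : Γ(X', O)) = 0 := by rw [← map_natCast (algebraMap Γ(X, ⊤) Γ(X', O)), hp, map_zero]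
    have hc' : IsPerfectSeq p fun n => algebraMap Γ(X, ⊤) Γ(X', O) (c n) := hc.map _
    have hs' : IsPerfectSeq p fun n => sval g (s.1 n) := hsp.map (sval g)
    refine hc'.ext hpO (algebraMap Γ(X, ⊤) Γ(X', O) u) (algebraMap Γ(X, ⊤) Γ(X', O) v) hs' (fun n => ?_)
      (fun n => ?_) (fun n => ?_) n
    · let P : Ideal Γ(X', O) := Ideal.span {algebraMap Γ(X, ⊤) Γ(X', O) u, algebraMap Γ(X, ⊤) Γ(X', O) v}
      let f := Ideal.Quotient.mkₐ Γ(X, ⊤) P
      have h0 : ∀ x ∈ Ideal.span {u, v}, algebraMap Γ(X, ⊤) (Γ(X', O) ⧸ P) x = 0 := fun x hx => by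
        rw [IsScalarTower.algebraMap_apply Γ(X, ⊤) Γ(X', O) (Γ(X', O) ⧸ P)]
        refine Ideal.Quotient.eq_zero_iff_mem.2 ?_
        have h1 := Ideal.mem_map_of_mem (algebraMap Γ(X, ⊤) Γ(X', O)) hx
        rwa [Ideal.map_span, Set.image_insert_eq, Set.image_singleton] at h1
      have h1 := sval_eq_of_map_eq_zero h hker t s hts ha h0 (Spec.map (CommRingCat.ofHom f.toRingHom) ≫ g)
        (by rw [Category.assoc, hg, map_sp]) n
      rw [sval_specMap] at h1
      refine Ideal.Quotient.eq.1 (Eq.trans ?_ h1.symm)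
      show f (algebraMap Γ(X, ⊤) Γ(X', O) (c n)) = _
      rw [f.commutes, ← sub_eq_zero, ← map_sub]
      exact h0 _ (hca n)
    · refine exists_pow_mul_eq fun S _ _ f hS => ?_
      rw [f.commutes, hcev S u hS, hcu₁, ← hcu' S hS (Spec.map (CommRingCat.ofHom f.toRingHom) ≫ g)
        (by rw [Category.assoc, hg, map_sp]), sval_specMap]
      rfl
    · refine exists_pow_mul_eq fun S _ _ f hS => ?_
      rw [f.commutes, hcev S v hS, hcv₁, ← hcv' S hS (Spec.map (CommRingCat.ofHom f.toRingHom) ≫ g)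
        (by rw [Category.assoc, hg, map_sp]), sval_specMap]
      rfl
  · obtain ⟨hdi, hdb⟩ := hd
    ext n
    have hd' : IsPerfectSeq p d.1 := d.2
    have hdw : ∀ w ∈ Ideal.span {u, v}, ∀ cw : ℕ → Localization.Away w,
        (∀ (R : Type u) [CommRing R] [Algebra Γ(X, ⊤) R] (hw : IsUnit (algebraMap Γ(X, ⊤) R w))
          (g : Spec (CommRingCat.of R) ⟶ X'), g ≫ b = sp X R → ∀ n, sval g (s.1 n) = ev hw (cw n)) →
        (∀ n, algebraMap Γ(X, ⊤) (Localization.Away w) (c n) = cw n) →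
        ∀ n, ∃ m : ℕ, w ^ m * d.1 n = w ^ m * c n := by
      intro w hw cw hcw' hcw₁ n
      refine exists_pow_mul_eq (A := Γ(X, ⊤)) (R := Γ(X, ⊤)) (w := w) fun S _ _ f hS => ?_
      obtain ⟨g, hg, -⟩ := existsUnique_pt h hker hw hS
      have h1 : b.appTop.hom (d.1 n) = s.1 n := congrArg (fun z : HTop.FrobLimSections p X' => z.1 n) hdb
      have hf : ∀ x, f x = algebraMap Γ(X, ⊤) S x := fun x => f.commutes x
      rw [hf, hf, hcev S w hS (c n), hcw₁, ← hcw' S hS g hg n, ← h1, ← sval_comp, hg, sval_sp]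
    refine hd'.ext hp u v hc (fun n => ?_) (hdw u hu cu hcu' hcu₁) (hdw v hv cv hcv' hcv₁) n
    have h1 : i.appTop.hom (d.1 n) = t.1 n := congrArg (fun z : HTop.FrobLimSections p Z => z.1 n) hdi
    have h2 : d.1 n - a n ∈ Ideal.span {u, v} := by
      rw [← hI, RingHom.mem_ker, map_sub, h1]
      exact sub_eq_zero.2 (ha n).symm
    have h3 := sub_mem h2 (hca n)
    rwa [sub_sub_sub_cancel_right] at h3

end Groth.Agent.HTopFrobLim

end
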